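import Groth.Agent.GeomRedAt.Basic
import Groth.Agent.S4989
import Groth.Prelude.Def_FDesc
import Mathlib.AlgebraicGeometry.Morphisms.Etale

/-!
Geometric reducedness at points: invariance under etale morphisms and field extensions.
-/

set_option autoImplicit false
set_option backward.isDefEq.respectTransparency false
universe u

open CategoryTheory Limits AlgebraicGeometry

namespace Groth.Agent.AlgSpGeomRed

variable {k : Type u} [Field k]

theorem isReduced_stalk_iff {U V : Scheme.{u}} (h : U ⟶ V) [Etale h] (u : U) :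
    _root_.IsReduced (U.presheaf.stalk u) ↔ _root_.IsReduced (V.presheaf.stalk (h u)) :=
  (S4989.result h u (by rw [h.smoothLocus_eq_top]; trivial)).1

theorem isReduced_iff_stalk {X : Scheme.{u}} :
    IsReduced X ↔ ∀ x : X, _root_.IsReduced (X.presheaf.stalk x) :=
  ⟨fun _ _ => inferInstance, fun _ => isReduced_of_isReduced_stalk _⟩

theorem isReduced_stalk_of_flat {U V : Scheme.{u}} (h : U ⟶ V) [Flat h] (u : U)
    [_root_.IsReduced (U.presheaf.stalk u)] : _root_.IsReduced (V.presheaf.stalk (h u)) := by
  letI := (h.stalkMap u).hom.toAlgebra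
  haveI : Module.Flat (V.presheaf.stalk (h u)) (U.presheaf.stalk u) := Flat.stalkMap h u
  haveI : IsLocalHom (algebraMap (V.presheaf.stalk (h u)) (U.presheaf.stalk u)) :=
    inferInstanceAs (IsLocalHom (h.stalkMap u).hom)
  haveI := Module.FaithfullyFlat.of_flat_of_isLocalHom (A := V.presheaf.stalk (h u)) (B := U.presheaf.stalk u)
  exact isReduced_of_injective (algebraMap _ _) (FaithfulSMul.algebraMap_injective _ (U.presheaf.stalk u))

theorem forall_reduced_iff {P Q U V : Scheme.{u}} {m : P ⟶ Q} {π : P ⟶ U} {π' : Q ⟶ V} {h : U ⟶ V} [Etale h]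
    (sq : IsPullback m π π' h) (u : U) :
    (∀ x, π x = u → _root_.IsReduced (P.presheaf.stalk x)) ↔
      ∀ y, π' y = h u → _root_.IsReduced (Q.presheaf.stalk y) := by
  haveI : Etale m := MorphismProperty.of_isPullback sq.flip inferInstance
  refine ⟨fun hu y hy => ?_, fun hu x hx => (isReduced_stalk_iff m x).2 (hu _ ?_)⟩
  · obtain ⟨z, hz₁, hz₂⟩ := Scheme.Pullback.exists_preimage_pullback y u hy
    have h' := (isReduced_stalk_iff m (sq.isoPullback.inv z)).1
      (hu _ ((congrArg (fun e : pullback π' h ⟶ U => e z) sq.isoPullback_inv_snd).trans hz₂))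
    have e : m (sq.isoPullback.inv z) = y :=
      (congrArg (fun e : pullback π' h ⟶ Q => e z) sq.isoPullback_inv_fst).trans hz₁
    exact e ▸ h'
  · rw [← Scheme.Hom.comp_apply, sq.w, Scheme.Hom.comp_apply, hx]

theorem flat_field {L M : Type u} [Field L] [CommRing M] (φ : L →+* M) :
    Flat (Spec.map (CommRingCat.ofHom φ)) := by
  letI := φ.toAlgebra
  exact Flat.SpecMap_iff.2 (RingHom.flat_algebraMap_iff.2 (inferInstanceAs (Module.Flat L M)))

/-- Geometric reducedness at a point is etale local. -/
theorem geomRedAt_iff_etale {U V : Scheme.{u}} {fU : U ⟶ Spec (CommRingCat.of k)} {fV : V ⟶ Spec (CommRingCat.of k)}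
    (h : U ⟶ V) [Etale h] (w : h ≫ fV = fU) (u : U) :
    FBase.IsGeomReducedAt fU u ↔ FBase.IsGeomReducedAt fV (h u) := by
  subst w
  have key : ∀ (K : Type u) [Field K] [Algebra k K],
      IsPullback (pullback.map (h ≫ fV) (Spec.map (CommRingCat.ofHom (algebraMap k K))) fV
        (Spec.map (CommRingCat.ofHom (algebraMap k K))) h (𝟙 _) (𝟙 _) (by simp) (by simp))
        (FBase.bcπ (h ≫ fV) K) (FBase.bcπ fV K) h := fun K _ _ => by
    refine IsPullback.of_right (h₁₂ := pullback.snd fV (Spec.map (CommRingCat.ofHom (algebraMap k K))))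
      (v₁₃ := Spec.map (CommRingCat.ofHom (algebraMap k K))) (h₂₂ := fV) ?_ (pullback.lift_fst _ _ _)
      (IsPullback.of_hasPullback fV (Spec.map (CommRingCat.ofHom (algebraMap k K)))).flip
    have e : pullback.map (h ≫ fV) (Spec.map (CommRingCat.ofHom (algebraMap k K))) fV
        (Spec.map (CommRingCat.ofHom (algebraMap k K))) h (𝟙 _) (𝟙 _) (by simp) (by simp) ≫
        pullback.snd fV (Spec.map (CommRingCat.ofHom (algebraMap k K))) = pullback.snd _ _ := by simp
    rw [e]
    exact (IsPullback.of_hasPullback _ _).flip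
  exact ⟨fun hu K _ _ => (forall_reduced_iff (key K) u).1 (hu K),
    fun hu K _ _ => (forall_reduced_iff (key K) u).2 (hu K)⟩

/-- Reducedness at points of the base change does not depend on the field. -/
theorem geomRedAt_bc {X : Scheme.{u}} (f : X ⟶ Spec (CommRingCat.of k)) (K : Type u) [Field K] [Algebra k K]
    {Y : Scheme.{u}} {p : Y ⟶ X} {q : Y ⟶ Spec (CommRingCat.of K)}
    (sqY : IsPullback p q f (Spec.map (CommRingCat.ofHom (algebraMap k K)))) (y : Y) :
    FBase.IsGeomReducedAt f (p y) ↔ FBase.IsGeomReducedAt q y := by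
  refine ⟨fun hx L _ _ z hz => ?_, fun hy L _ _ z hz => ?_⟩
  · letI : Algebra k L := ((algebraMap K L).comp (algebraMap k K)).toAlgebra
    have sq : IsPullback (FBase.bcπ q L ≫ p) (FBase.bcStr q L) f (Spec.map (CommRingCat.ofHom (algebraMap k L))) := by
      have := (IsPullback.of_hasPullback q (Spec.map (CommRingCat.ofHom (algebraMap K L)))).paste_horiz sqY
      rwa [← Spec.map_comp, ← CommRingCat.ofHom_comp] at this
    have hh := hx L (sq.isoPullback.hom z)
      ((congrArg (fun e : FBase.bc q L ⟶ X => e z) sq.isoPullback_hom_fst).trans (congrArg p hz))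
    exact @isReduced_of_injective _ _ _ _ _ _ _ ((asIso (sq.isoPullback.hom.stalkMap z)).commRingCatIsoToRingEquiv).symm
      (asIso (sq.isoPullback.hom.stalkMap z)).commRingCatIsoToRingEquiv.symm.injective hh
  · obtain ⟨t, ht₁, ht₂⟩ := Scheme.Pullback.exists_preimage_pullback (f := p) (g := FBase.bcπ f L) y z hz.symm
    let T := pullback p (FBase.bcπ f L)
    let M : Type u := T.residueField t
    let φK : Spec (CommRingCat.of M) ⟶ Spec (CommRingCat.of K) := T.fromSpecResidueField t ≫ pullback.fst _ _ ≫ q
    let φL : Spec (CommRingCat.of M) ⟶ Spec (CommRingCat.of L) :=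
      T.fromSpecResidueField t ≫ pullback.snd _ _ ≫ FBase.bcStr f L
    letI : Algebra K M := (Spec.preimage φK).hom.toAlgebra
    letI : Algebra L M := (Spec.preimage φL).hom.toAlgebra
    letI : Algebra k M := ((algebraMap K M).comp (algebraMap k K)).toAlgebra
    have hK : Spec.map (CommRingCat.ofHom (algebraMap K M)) = φK := Spec.map_preimage φK
    have hL : Spec.map (CommRingCat.ofHom (algebraMap L M)) = φL := Spec.map_preimage φL
    have hkL : Spec.map (CommRingCat.ofHom (algebraMap L M)) ≫ Spec.map (CommRingCat.ofHom (algebraMap k L)) =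
        Spec.map (CommRingCat.ofHom (algebraMap k M)) := by
      rw [show CommRingCat.ofHom (algebraMap k M) =
        CommRingCat.ofHom (algebraMap k K) ≫ CommRingCat.ofHom (algebraMap K M) from rfl, Spec.map_comp, hK, hL]
      simp only [φK, φL, Category.assoc]
      erw [← pullback.condition (f := f) (g := Spec.map (CommRingCat.ofHom (algebraMap k L)))]
      rw [← sqY.w]
      exact congrArg (T.fromSpecResidueField t ≫ ·) (by
        rw [← Category.assoc, ← Category.assoc]; exact congrArg (· ≫ f) pullback.condition.symm)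
    have sq : IsPullback (FBase.bcπ q M ≫ p) (FBase.bcStr q M) f (Spec.map (CommRingCat.ofHom (algebraMap k M))) := by
      have := (IsPullback.of_hasPullback q (Spec.map (CommRingCat.ofHom (algebraMap K M)))).paste_horiz sqY
      rwa [← Spec.map_comp, ← CommRingCat.ofHom_comp] at this
    let w : Spec (CommRingCat.of M) ⟶ FBase.bc q M :=
      pullback.lift (T.fromSpecResidueField t ≫ pullback.fst _ _) (𝟙 _) (by rw [Category.id_comp, hK, Category.assoc])
    let π : FBase.bc q M ⟶ FBase.bc f L :=
      pullback.lift (FBase.bcπ q M ≫ p) (FBase.bcStr q M ≫ Spec.map (CommRingCat.ofHom (algebraMap L M)))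
        (by rw [sq.w, Category.assoc, hkL])
    haveI : Flat π := by
      haveI : Flat (Spec.map (CommRingCat.ofHom (algebraMap L M))) :=
        flat_field _
      have sqπ : IsPullback π (FBase.bcStr q M) (FBase.bcStr f L) (Spec.map (CommRingCat.ofHom (algebraMap L M))) :=
        IsPullback.of_right (h₁₂ := FBase.bcπ f L) (v₁₃ := f) (h₂₂ := Spec.map (CommRingCat.ofHom (algebraMap k L)))
          (by rw [hkL, show π ≫ FBase.bcπ f L = FBase.bcπ q M ≫ p from pullback.lift_fst _ _ _]; exact sq)
          (pullback.lift_snd _ _ _) (IsPullback.of_hasPullback f _)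
      exact MorphismProperty.of_isPullback sqπ.flip inferInstance
    have hwπ : w ≫ π = T.fromSpecResidueField t ≫ pullback.snd _ _ := by
      apply pullback.hom_ext
      · rw [Category.assoc, pullback.lift_fst, ← Category.assoc]
        erw [pullback.lift_fst]
        rw [Category.assoc, Category.assoc, pullback.condition]
        rfl
      · rw [Category.assoc, pullback.lift_snd, ← Category.assoc]
        erw [pullback.lift_snd]
        rw [Category.id_comp, hL, Category.assoc]
        rfl
    let m := IsLocalRing.closedPoint M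
    haveI := hy M (w m) (by
      rw [← Scheme.Hom.comp_apply]
      erw [pullback.lift_fst]
      rw [Scheme.Hom.comp_apply]
      erw [Scheme.fromSpecResidueField_apply]
      exact ht₁)
    have := isReduced_stalk_of_flat π (w m)
    rw [← Scheme.Hom.comp_apply, hwπ, Scheme.Hom.comp_apply] at this
    erw [Scheme.fromSpecResidueField_apply, ht₂] at this
    exact this

theorem forall_geomRedAt_iff {X : Scheme.{u}} (f : X ⟶ Spec (CommRingCat.of k)) :
    (∀ x, FBase.IsGeomReducedAt f x) ↔ ∀ (K : Type u) [Field K] [Algebra k K], IsReduced (FBase.bc f K) :=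
  ⟨fun h K _ _ => isReduced_iff_stalk.2 fun x' => h _ K x' rfl,
    fun h _ K _ _ x' _ => isReduced_iff_stalk.1 (h K) x'⟩

theorem reduced_tensor_of_bc {X : Scheme.{u}} (f : X ⟶ Spec (CommRingCat.of k)) {A : CommRingCat.{u}}
    [Algebra k A] (j : Spec A ⟶ X) [IsOpenImmersion j]
    (hj : j ≫ f = Spec.map (CommRingCat.ofHom (algebraMap k A))) (K : Type u) [Field K] [Algebra k K]
    [IsReduced (FBase.bc f K)] : _root_.IsReduced (TensorProduct k K A) := by
  obtain ⟨ι, hι, -, -⟩ := GeomRedAt.exists_bc_chart f j hj K
  haveI : IsReduced (Spec (CommRingCat.of (TensorProduct k K A))) := isReduced_of_isOpenImmersion ι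
  exact isReduced_of_injective (Scheme.ΓSpecIso (CommRingCat.of (TensorProduct k K A))).commRingCatIsoToRingEquiv.symm
    (Scheme.ΓSpecIso (CommRingCat.of (TensorProduct k K A))).commRingCatIsoToRingEquiv.symm.injective

theorem reduced_tensor_of_finite (Ω : Type u) [Field Ω] [Algebra k Ω] [Algebra.IsAlgebraic k Ω] (A : Type u)
    [CommRing A] [Algebra k A]
    (h : ∀ L : IntermediateField k Ω, FiniteDimensional k L → _root_.IsReduced (TensorProduct k L A)) :
    _root_.IsReduced (TensorProduct k Ω A) := by
  have key : ∀ z : TensorProduct k Ω A, ∃ L : IntermediateField k Ω, FiniteDimensional k L ∧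
      z ∈ Set.range (Algebra.TensorProduct.map (S := k) L.val (AlgHom.id k A)) := by
    intro z
    induction z using TensorProduct.induction_on with
    | zero => exact ⟨⊥, inferInstance, 0, map_zero _⟩
    | tmul a b =>
      refine ⟨IntermediateField.adjoin k {a}, IntermediateField.adjoin.finiteDimensional
        (Algebra.IsAlgebraic.isAlgebraic a).isIntegral, TensorProduct.tmul k ⟨a, IntermediateField.mem_adjoin_simple_self k a⟩ b, ?_⟩
      simp
    | add x y hx hy =>
      obtain ⟨L₁, _, x', rfl⟩ := hx
      obtain ⟨L₂, _, y', rfl⟩ := hy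
      refine ⟨L₁ ⊔ L₂, inferInstance,
        Algebra.TensorProduct.map (S := k) (IntermediateField.inclusion (le_sup_left : L₁ ≤ L₁ ⊔ L₂)) (AlgHom.id k A) x' +
          Algebra.TensorProduct.map (S := k) (IntermediateField.inclusion (le_sup_right : L₂ ≤ L₁ ⊔ L₂)) (AlgHom.id k A) y', ?_⟩
      rw [map_add, ← AlgHom.comp_apply, ← AlgHom.comp_apply, ← Algebra.TensorProduct.map_comp,
        ← Algebra.TensorProduct.map_comp]
      rfl
  refine ⟨fun z ⟨n, hn⟩ => ?_⟩
  obtain ⟨L, hL, w, rfl⟩ := key z
  haveI := h L hL
  have hinj : Function.Injective (Algebra.TensorProduct.map (S := k) L.val (AlgHom.id k A)) :=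
    Module.Flat.rTensor_preserves_injective_linearMap _ L.val.toRingHom.injective
  rw [← map_pow, map_eq_zero_iff _ hinj] at hn
  rw [IsReduced.eq_zero w ⟨n, hn⟩, map_zero]

theorem geomRed_localization (A : Type u) [CommRing A] [Algebra k A] (kp : Type u) [Field kp] [PerfectField kp]
    [Algebra k kp] [Algebra.IsAlgebraic k kp] [_root_.IsReduced (TensorProduct k kp A)] (p : PrimeSpectrum A) :
    Algebra.IsGeometricallyReduced k (Localization.AtPrime p.asIdeal) := by
  letI := (Algebra.TensorProduct.map (AlgHom.id kp kp)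
    (IsScalarTower.toAlgHom k A (Localization.AtPrime p.asIdeal))).toRingHom.toAlgebra
  haveI := GeomRedStrata.isLocalization_baseChange k kp p.asIdeal.primeCompl (Localization.AtPrime p.asIdeal)
  haveI : _root_.IsReduced (TensorProduct k kp (Localization.AtPrime p.asIdeal)) :=
    isReduced_localizationPreserves (p.asIdeal.primeCompl.map (Algebra.TensorProduct.includeRight (R := k) (A := kp) (B := A))) _ inferInstance
  exact RegLocus.geomReduced_of_perfect k kp _

/-- An algebraic perfect extension detects geometric reducedness. -/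
theorem forall_geomRedAt_of_perfect {X : Scheme.{u}} (f : X ⟶ Spec (CommRingCat.of k)) (kp : Type u) [Field kp]
    [PerfectField kp] [Algebra k kp] [Algebra.IsAlgebraic k kp] [IsReduced (FBase.bc f kp)] (x : X) :
    FBase.IsGeomReducedAt f x := by
  obtain ⟨A, _, j, _, hj, p, rfl⟩ := GeomRedAt.exists_chart f x
  rw [GeomRedAt.isGeomReducedAt_iff f j hj p]
  haveI := reduced_tensor_of_bc f j hj kp
  exact geomRed_localization A kp p

/-- Finite purely inseparable extensions detect geometric reducedness. -/
theorem forall_geomRedAt_of_finite {X : Scheme.{u}} (f : X ⟶ Spec (CommRingCat.of k))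
    (h : ∀ (L : Type u) [Field L] [Algebra k L], Module.Finite k L → IsPurelyInseparable k L →
      IsReduced (FBase.bc f L)) (x : X) : FBase.IsGeomReducedAt f x := by
  obtain ⟨A, _, j, _, hj, p, rfl⟩ := GeomRedAt.exists_chart f x
  rw [GeomRedAt.isGeomReducedAt_iff f j hj p]
  let kp := perfectClosure k (AlgebraicClosure k)
  haveI : _root_.IsReduced (TensorProduct k kp A) := reduced_tensor_of_finite kp A fun L hL => by
    haveI : IsPurelyInseparable k L := IsPurelyInseparable.tower_bot k L kp
    haveI := h L hL inferInstance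
    exact reduced_tensor_of_bc f j hj L
  exact geomRed_localization A kp p

end Groth.Agent.AlgSpGeomRed
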