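import Groth.Agent.AlgSpGeomRed.Sch
import Groth.Agent.AlgSpc.Basic
import Groth.Agent.AlgSpc.LocP

/-!
Geometric reducedness of algebraic spaces over a field.
-/

set_option autoImplicit false
set_option backward.isDefEq.respectTransparency false
universe u

open CategoryTheory Limits AlgebraicGeometry
open AlgSp

namespace Groth.Agent.AlgSpGeomRed

open Groth.Agent.AlgSpc

section
variable {S : Scheme.{u}}

theorem etale_pre {X : Sp S} {U W : Over S} {a : (yon S).obj U ⟶ X} {c : (yon S).obj W ⟶ X}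
    (ha : RepWith @Etale a) (hc : RepWith @Etale c) (h : W ⟶ U) (w : (yon S).map h ≫ a = c) : Etale h.left :=
  etale_of_comp (a := c) (b := a) hc ha h w

theorem exists_common {X : Sp S} {U V : Over S} {a : (yon S).obj U ⟶ X} {b : (yon S).obj V ⟶ X}
    (ha : RepWith @Etale a) (hb : RepWith @Etale b) (u : ↥U.left) (v : ↥V.left)
    (h : Points.ofPt a u = Points.ofPt b v) :
    ∃ (W : Over S) (h₁ : W ⟶ U) (h₂ : W ⟶ V) (w : ↥W.left),
      Etale h₁.left ∧ Etale h₂.left ∧ h₁.left w = u ∧ h₂.left w = v ∧ (yon S).map h₁ ≫ a = (yon S).map h₂ ≫ b := by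
  obtain ⟨W, fst, snd, sq⟩ := exists_sq ha.1 b
  haveI : Etale snd.left := ha.2 _ _ _ sq
  obtain ⟨w, hw₁, hw₂⟩ := exists_point_of_sq sq (Points.ofScheme U u) v
    (by rw [Points.map_ofPt, Category.id_comp]; exact h)
  have h1 : RepWith @Etale fst := repWith_of_isPullback sq.flip hb
  refine ⟨W, pre fst, snd, w, (repWith_yon_map_iff @Etale _).1 (by rwa [map_pre]), inferInstance, ?_, hw₂,
    by rw [map_pre]; exact sq.w⟩
  rw [ofPt_pre] at hw₁
  simpa using congrArg (Points.toScheme U) hw₁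

theorem isReduced_of_chart {X : Sp S} (h : EtaleLocally (fun U => IsReduced U) X) {V : Over S}
    (b : (yon S).obj V ⟶ X) (hb : RepWith @Etale b) : IsReduced V.left := by
  obtain ⟨U, a, ha, has, hU⟩ := h
  refine isReduced_iff_stalk.2 fun v => ?_
  obtain ⟨z, hz⟩ := surjective_map_of_repWith has (Points.ofPt b v)
  obtain ⟨u, rfl⟩ : ∃ u, Points.ofScheme U u = z := ⟨_, Points.ofScheme_toScheme U z⟩
  rw [Points.map_ofPt, Category.id_comp] at hz
  obtain ⟨W, h₁, h₂, w, _, _, rfl, rfl, -⟩ := exists_common ha hb u v hz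
  haveI := hU
  exact (isReduced_stalk_iff h₂.left w).1 ((isReduced_stalk_iff h₁.left w).2 inferInstance)

/-- The product of a chart with a scheme. -/
noncomputable abbrev prodObj (U T : Over S) : Over S := Over.mk (pullback.fst U.hom T.hom ≫ U.hom)

noncomputable abbrev prodFst (U T : Over S) : prodObj U T ⟶ U := Over.homMk (pullback.fst U.hom T.hom) rfl

noncomputable abbrev prodSnd (U T : Over S) : prodObj U T ⟶ T :=
  Over.homMk (pullback.snd U.hom T.hom) pullback.condition.symm

theorem exists_prodChart {X : Sp S} {U T : Over S} (a : (yon S).obj U ⟶ X) :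
    ∃ c : (yon S).obj (prodObj U T) ⟶ X ⨯ (yon S).obj T,
      IsPullback ((yon S).map (prodFst U T)) c a (Limits.prod.fst : X ⨯ (yon S).obj T ⟶ X) ∧
        c ≫ Limits.prod.snd = (yon S).map (prodSnd U T) := by
  let o : Over S := Over.mk (𝟙 S)
  have sqO : IsPullback (prodFst U T) (prodSnd U T) (Over.homMk U.hom (Category.comp_id _) : U ⟶ o)
      (Over.homMk T.hom (Category.comp_id _)) :=
    IsPullback.of_map (Over.forget S) (Over.OverMorphism.ext pullback.condition) (IsPullback.of_hasPullback U.hom T.hom)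
  have sqS := sqO.map (yon S)
  have hterm : IsTerminal ((yon S).obj o) := IsTerminal.isTerminalObj (yon S) o Over.mkIdTerminal
  refine ⟨prod.lift ((yon S).map (prodFst U T) ≫ a) ((yon S).map (prodSnd U T)), ?_, prod.lift_snd _ _⟩
  refine IsPullback.of_isLimit' ⟨(prod.lift_fst _ _).symm⟩ (PullbackCone.IsLimit.mk _
    (fun s => sqS.lift s.fst (s.snd ≫ Limits.prod.snd) (hterm.hom_ext _ _))
    (fun s => sqS.lift_fst _ _ _) (fun s => ?_) (fun s m h₁ h₂ => ?_))
  · apply Limits.prod.hom_ext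
    · rw [Category.assoc, prod.lift_fst, ← Category.assoc, sqS.lift_fst]; exact s.condition
    · rw [Category.assoc, prod.lift_snd, sqS.lift_snd]
  · refine sqS.hom_ext (h₁.trans (sqS.lift_fst _ _ _).symm) ?_
    rw [sqS.lift_snd, ← h₂, Category.assoc, prod.lift_snd]

end

variable {k : Type u} [Field k]

/-- Geometric reducedness at a point of a space: some etale chart. -/
def GR (X : Sp (Spec (CommRingCat.of k))) (x : Points X) : Prop :=
  ∃ (U : Over (Spec (CommRingCat.of k))) (a : (yon _).obj U ⟶ X) (u : ↥U.left),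
    RepWith @Etale a ∧ Points.ofPt a u = x ∧ FBase.IsGeomReducedAt U.hom u

theorem gr_iff_of_chart {X : Sp (Spec (CommRingCat.of k))} {U : Over (Spec (CommRingCat.of k))}
    (a : (yon _).obj U ⟶ X) (ha : RepWith @Etale a) (u : ↥U.left) :
    GR X (Points.ofPt a u) ↔ FBase.IsGeomReducedAt U.hom u := by
  refine ⟨?_, fun h => ⟨U, a, u, ha, rfl, h⟩⟩
  rintro ⟨V, b, v, hb, hv, h⟩
  obtain ⟨W, h₁, h₂, w, _, _, rfl, rfl, -⟩ := exists_common ha hb u v hv.symm
  exact (geomRedAt_iff_etale h₁.left (Over.w h₁) w).1 ((geomRedAt_iff_etale h₂.left (Over.w h₂) w).2 h)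

theorem exists_chart_pt {S : Scheme.{u}} {X : Sp S} (hX : IsAlgSpace X) (x : Points X) :
    ∃ (U : Over S) (a : (yon S).obj U ⟶ X) (u : ↥U.left), RepWith @Etale a ∧ Points.ofPt a u = x := by
  obtain ⟨U, a, ha, has⟩ := hX.atlas
  obtain ⟨z, rfl⟩ := surjective_map_of_repWith has x
  obtain ⟨u, rfl⟩ : ∃ u, Points.ofScheme U u = z := ⟨_, Points.ofScheme_toScheme U z⟩
  exact ⟨U, a, u, ha, by rw [Points.map_ofPt, Category.id_comp]⟩

/-- The base change to a field. -/
noncomputable abbrev fieldObj (k K : Type u) [Field k] [Field K] [Algebra k K] : Over (Spec (CommRingCat.of k)) :=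
  Over.mk (Spec.map (CommRingCat.ofHom (algebraMap k K)))

theorem forall_gr_iff {X : Sp (Spec (CommRingCat.of k))} (hX : IsAlgSpace X) :
    (∀ x, GR X x) ↔ ∀ (K : Type u) [Field K] [Algebra k K],
      EtaleLocally (fun U => IsReduced U) (X ⨯ (yon _).obj (fieldObj k K)) := by
  obtain ⟨U, a, ha, has⟩ := hX.atlas
  constructor
  · intro h K _ _
    obtain ⟨c, sq, -⟩ := exists_prodChart (T := fieldObj k K) a
    refine ⟨_, c, repWith_of_isPullback sq ha, repWith_of_isPullback sq has, ?_⟩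
    exact (forall_geomRedAt_iff U.hom).1 (fun u => (gr_iff_of_chart a ha u).1 (h _)) K
  · intro h x
    obtain ⟨V, b, v, hb, rfl⟩ := exists_chart_pt hX x
    refine (gr_iff_of_chart b hb v).2 ((forall_geomRedAt_iff V.hom).2 (fun K _ _ => ?_) v)
    obtain ⟨c, sq, -⟩ := exists_prodChart (T := fieldObj k K) b
    exact isReduced_of_chart (h K) c (repWith_of_isPullback sq hb)

theorem forall_gr_of_perfect {X : Sp (Spec (CommRingCat.of k))} (hX : IsAlgSpace X) (kp : Type u) [Field kp]
    [PerfectField kp] [Algebra k kp] [Algebra.IsAlgebraic k kp]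
    (h : EtaleLocally (fun U => IsReduced U) (X ⨯ (yon _).obj (fieldObj k kp))) (x : Points X) : GR X x := by
  obtain ⟨V, b, v, hb, rfl⟩ := exists_chart_pt hX x
  obtain ⟨c, sq, -⟩ := exists_prodChart (T := fieldObj k kp) b
  haveI : IsReduced (FBase.bc V.hom kp) := isReduced_of_chart h c (repWith_of_isPullback sq hb)
  exact (gr_iff_of_chart b hb v).2 (forall_geomRedAt_of_perfect V.hom kp v)

theorem forall_gr_of_finite {X : Sp (Spec (CommRingCat.of k))} (hX : IsAlgSpace X)
    (h : ∀ (L : Type u) [Field L] [Algebra k L], Module.Finite k L → IsPurelyInseparable k L →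
      EtaleLocally (fun U => IsReduced U) (X ⨯ (yon _).obj (fieldObj k L))) (x : Points X) : GR X x := by
  obtain ⟨V, b, v, hb, rfl⟩ := exists_chart_pt hX x
  refine (gr_iff_of_chart b hb v).2 (forall_geomRedAt_of_finite V.hom (fun L _ _ hL hP => ?_) v)
  obtain ⟨c, sq, -⟩ := exists_prodChart (T := fieldObj k L) b
  exact isReduced_of_chart (h L hL hP) c (repWith_of_isPullback sq hb)

variable (K : Type u) [Field K] [Algebra k K]

/-- Geometric reducedness over `K` at a point of the base change. -/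
def GRK (X : Sp (Spec (CommRingCat.of k))) (x' : Points (X ⨯ (yon _).obj (fieldObj k K))) : Prop :=
  ∃ (U' : Over (Spec (CommRingCat.of k))) (a' : (yon _).obj U' ⟶ (X ⨯ (yon _).obj (fieldObj k K)))
    (q : U' ⟶ fieldObj k K) (u' : ↥U'.left),
    RepWith @Etale a' ∧ a' ≫ Limits.prod.snd = (yon _).map q ∧ Points.ofPt a' u' = x' ∧
      FBase.IsGeomReducedAt q.left u'

theorem gr_bc_iff {X : Sp (Spec (CommRingCat.of k))} (hX : IsAlgSpace X)
    (x' : Points (X ⨯ (yon _).obj (fieldObj k K))) :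
    GR X (Points.map Limits.prod.fst x') ↔ GRK K X x' := by
  obtain ⟨U, a, u, ha, hu⟩ := exists_chart_pt hX (Points.map Limits.prod.fst x')
  obtain ⟨c, sq, hc⟩ := exists_prodChart (T := fieldObj k K) a
  obtain ⟨z, hz₁, hz₂⟩ := exists_point_of_isPullback sq (Points.ofScheme U u) x'
    (by rw [Points.map_ofPt, Category.id_comp, hu])
  obtain ⟨y, rfl⟩ : ∃ y, Points.ofScheme (prodObj U (fieldObj k K)) y = z := ⟨_, Points.ofScheme_toScheme _ z⟩
  rw [Points.map_ofPt, Category.id_comp] at hz₁ hz₂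
  rw [ofPt_pre, pre_map] at hz₁
  replace hz₁ : (prodFst U (fieldObj k K)).left y = u := by simpa using congrArg (Points.toScheme U) hz₁
  have hce : RepWith @Etale c := repWith_of_isPullback sq ha
  have key := geomRedAt_bc U.hom K (IsPullback.of_hasPullback U.hom (fieldObj k K).hom) y
  rw [← hu, gr_iff_of_chart a ha u, ← hz₁]
  refine key.trans ⟨fun h => ⟨_, c, prodSnd U (fieldObj k K), y, hce, hc, hz₂, h⟩, ?_⟩
  rintro ⟨V, b, q, v, hb, hbq, hv, h⟩
  obtain ⟨W, h₁, h₂, w, _, _, e₁, e₂, e⟩ := exists_common hce hb y v (hz₂.trans hv.symm)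
  have hq : h₁ ≫ prodSnd U (fieldObj k K) = h₂ ≫ q := by
    refine (yon _).map_injective ?_
    rw [Functor.map_comp, Functor.map_comp, ← hbq, ← hc, ← Category.assoc, e, Category.assoc]
  subst e₂
  rw [← e₁]
  exact (geomRedAt_iff_etale h₁.left (congrArg CommaMorphism.left hq) w).1
    ((geomRedAt_iff_etale h₂.left rfl w).2 h)

end Groth.Agent.AlgSpGeomRed
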